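import Mathlib
import Cfsg.Prelude.Def_Blocks
import Cfsg.Agent.Lib.helper7.LocalIdeal
import Cfsg.Agent.Lib.helper7.BlockOsima
import Cfsg.Agent.Lib.helper7.Br.Defs

/-!
# Project B3P (S4427, Brauer): shared definitions

`|G| = p^a q^b r^c` with exactly `q^b r^c` elements of order prime to `p`  ==>  normal `p`-complement.

Idea (Brauer): for Sylow subgroups `Q`, `R` the permutation characters `(1_Q)^G`, `(1_R)^G` are
projective, share the projective cover `Phi_1` of the trivial module, and `[(1_Q)^G,(1_R)^G] = p^a`,
so `[Phi_1, Phi_1] <= p^a`; with `theta = p^a 1_{p-regular}`, `[Phi_1, theta] = p^a = [theta, theta]`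
and Cauchy-Schwarz gives `Phi_1 = theta`, whose kernel is the set of `p`-regular elements.

No modular representation theory is used: `Phi_1` is the character of `C[G] f` for an idempotent
`f` of the group algebra over the local ring `O = locRing M` of algebraic numbers integral at `M`,
constructed as a spectral idempotent of `t = e_Q e_R e_Q`.

* `locRing M hM : Subring ℂ`         the local ring `{a / b : a, b algebraic integers, b ∉ M}`.
* `GA O G` (helper7)                 the group algebra as functions with convolution.
* `toC`                              `GA (locRing M hM) G → GA ℂ G`, coefficientwise coercion (a ring hom: piece TOC).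
* `aug`                              augmentation `x ↦ ∑ g, x g`.
* `eH H c`                           the element `c • ∑_{h ∈ H} h`.
* `Phi x`                            `y ↦ ∑ z, x (z⁻¹ y⁻¹ z)`: the trace of `v ↦ δ_y * v * x` on the group algebra;
                                     for an idempotent `x` the character of the left ideal `C[G] x`.
* `indMat H φ x`                     the matrix of `x` in the monomial representation induced from `φ : H →* B`.
-/

set_option autoImplicit false
set_option linter.unusedSectionVars false
set_option linter.unusedVariables false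

namespace Cfsg.Agent.Lib.Lead.B3P

open Cfsg.Agent.Lib.helper7 Cfsg.Agent.Lib.helper7.Br

/-- The local ring at `M`: complex numbers `a / b` with `a, b` algebraic integers, `b ∉ M`. -/
def locRing (M : Ideal Cfsg.AlgInt) (hM : M.IsPrime) : Subring ℂ where
  carrier := {z | Cfsg.MemLocalRing M z}
  mul_mem' := fun ha hb => h7_memLocalRing_mul hM ha hb
  one_mem' := h7_memLocalRing_one hM
  add_mem' := fun ha hb => h7_memLocalRing_add hM ha hb
  zero_mem' := h7_memLocalRing_zero hM
  neg_mem' := fun ha => h7_memLocalRing_neg ha

theorem mem_locRing {M : Ideal Cfsg.AlgInt} {hM : M.IsPrime} {z : ℂ} :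
    z ∈ locRing M hM ↔ Cfsg.MemLocalRing M z := Iff.rfl

variable {G : Type*} [Group G]

/-- augmentation `x ↦ ∑ g, x g` of an element of the group algebra -/
def aug {O : Type*} [AddCommMonoid O] [Fintype G] (x : GA O G) : O := ∑ g : G, x g

/-- `c • ∑_{h ∈ H} h` as an element of the group algebra -/
noncomputable def eH {O : Type*} [Zero O] (H : Subgroup G) (c : O) : GA O G :=
  fun g => by classical exact if g ∈ H then c else 0

theorem eH_apply {O : Type*} [Zero O] (H : Subgroup G) (c : O) (g : G) [Decidable (g ∈ H)] :
    eH H c g = if g ∈ H then c else 0 := by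
  unfold eH
  congr

/-- `Phi x y = ∑ z, x (z⁻¹ y⁻¹ z)` : the trace of `v ↦ δ_y * v * x` on the complex group algebra -/
def Phi [Fintype G] (x : GA ℂ G) : G → ℂ := fun y => ∑ z : G, x (z⁻¹ * y⁻¹ * z)

theorem Phi_apply [Fintype G] (x : GA ℂ G) (y : G) : Phi x y = ∑ z : G, x (z⁻¹ * y⁻¹ * z) := rfl

/-- coefficientwise coercion from the group algebra over the local ring to the complex group algebra -/
def toC {M : Ideal Cfsg.AlgInt} {hM : M.IsPrime} (x : GA (locRing M hM) G) : GA ℂ G :=
  fun g => ((x g : locRing M hM) : ℂ)

theorem toC_apply {M : Ideal Cfsg.AlgInt} {hM : M.IsPrime} (x : GA (locRing M hM) G) (g : G) :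
    toC x g = ((x g : locRing M hM) : ℂ) := rfl

/-- The matrix of `x` in the monomial representation of `G` induced from `φ : H →* B`, on the left
cosets of `H` (with the representatives `Quotient.out`). -/
noncomputable def indMat {O B : Type*} [CommRing O] [CommRing B] [Algebra O B] (H : Subgroup G)
    [Fintype H] (φ : H →* B) (x : GA O G) : Matrix (G ⧸ H) (G ⧸ H) B :=
  fun σ τ => ∑ h : H, algebraMap O B (x (σ.out * (h : G) * τ.out⁻¹)) * φ h

theorem indMat_apply {O B : Type*} [CommRing O] [CommRing B] [Algebra O B] (H : Subgroup G)
    [Fintype H] (φ : H →* B) (x : GA O G) (σ τ : G ⧸ H) :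
    indMat H φ x σ τ = ∑ h : H, algebraMap O B (x (σ.out * (h : G) * τ.out⁻¹)) * φ h := rfl

end Cfsg.Agent.Lib.Lead.B3P
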