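import Mathlib

set_option autoImplicit false

namespace Cfsg.Agent.Lib.Lead.B3P

theorem transfer {A : Type*} [Ring A] (eQ eR f u : A) (hQ : eQ * eQ = eQ) (hR : eR * eR = eR)
    (hf : f * f = f) (h1 : u * (eQ * eR * eQ) = f) (h2 : (eQ * eR * eQ) * u = f)
    (h3 : u * f = u) (h4 : f * u = u) :
    f * eQ = f ∧ eQ * f = f ∧ (u * eR) * (eR * f) = f ∧ (eR * f) * (u * eR) = eR * u * eR ∧
    (eR * u * eR) * (eR * u * eR) = eR * u * eR ∧ eR * (eR * u * eR) = eR * u * eR ∧
    (eR * u * eR) * eR = eR * u * eR := by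
  have e1 : f * eQ = f := by
    calc f * eQ = u * (eQ * eR * eQ) * eQ := by rw [h1]
      _ = u * (eQ * eR * (eQ * eQ)) := by simp only [mul_assoc]
      _ = f := by rw [hQ, h1]
  have e2 : eQ * f = f := by
    calc eQ * f = eQ * ((eQ * eR * eQ) * u) := by rw [h2]
      _ = (eQ * eQ) * eR * eQ * u := by simp only [mul_assoc]
      _ = f := by rw [hQ, h2]
  have ht : (eQ * eR * eQ) * f = f * (eQ * eR * eQ) := by
    calc (eQ * eR * eQ) * f = (eQ * eR * eQ) * (u * (eQ * eR * eQ)) := by rw [h1]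
      _ = ((eQ * eR * eQ) * u) * (eQ * eR * eQ) := by simp only [mul_assoc]
      _ = f * (eQ * eR * eQ) := by rw [h2]
  have hfRf : f * eR * f = (eQ * eR * eQ) * f := by
    calc f * eR * f = (f * eQ) * eR * (eQ * f) := by rw [e1, e2]
      _ = f * (eQ * eR * eQ) * f := by simp only [mul_assoc]
      _ = (eQ * eR * eQ) * f * f := by rw [ht]
      _ = (eQ * eR * eQ) * f := by rw [mul_assoc, hf]
  have e3 : u * eR * f = f := by
    calc u * eR * f = (u * f) * eR * f := by rw [h3]
      _ = u * (f * eR * f) := by simp only [mul_assoc]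
      _ = u * ((eQ * eR * eQ) * f) := by rw [hfRf]
      _ = (u * (eQ * eR * eQ)) * f := by simp only [mul_assoc]
      _ = f := by rw [h1, hf]
  have e5 : u * eR * u = u := by
    calc u * eR * u = (u * f) * eR * (f * u) := by rw [h3, h4]
      _ = u * (f * eR * f) * u := by simp only [mul_assoc]
      _ = u * ((eQ * eR * eQ) * f) * u := by rw [hfRf]
      _ = (u * (eQ * eR * eQ)) * (f * u) := by simp only [mul_assoc]
      _ = u := by rw [h1, h4, h4]
  refine ⟨e1, e2, ?_, ?_, ?_, ?_, ?_⟩
  · calc (u * eR) * (eR * f) = u * (eR * eR) * f := by simp only [mul_assoc]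
      _ = f := by rw [hR, e3]
  · calc (eR * f) * (u * eR) = eR * (f * u) * eR := by simp only [mul_assoc]
      _ = eR * u * eR := by rw [h4]
  · calc (eR * u * eR) * (eR * u * eR) = eR * (u * (eR * eR) * u) * eR := by simp only [mul_assoc]
      _ = eR * (u * eR * u) * eR := by rw [hR]
      _ = eR * u * eR := by rw [e5]
  · calc eR * (eR * u * eR) = (eR * eR) * u * eR := by simp only [mul_assoc]
      _ = eR * u * eR := by rw [hR]
  · calc (eR * u * eR) * eR = eR * u * (eR * eR) := by simp only [mul_assoc]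
      _ = eR * u * eR := by rw [hR]

end Cfsg.Agent.Lib.Lead.B3P
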