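import Mathlib
import Cfsg.Agent.Lib.Lead.B3P.Defs
import Cfsg.Agent.Lib.Lead.B3P.Transfer
import Cfsg.Agent.Lib.Helper19.B3PLOC
import Cfsg.Agent.Lib.Helper19.B3PSPLIT
import Cfsg.Agent.Lib.Helper11.B3PSPEC
import Cfsg.Agent.Lib.Helper29.B3PTOC
import Cfsg.Agent.Lib.helper7.BlockCover

set_option autoImplicit false
set_option linter.unusedVariables false
set_option linter.unusedSectionVars false
set_option linter.style.haveILetI false
open scoped ComplexConjugate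
open Classical

namespace Cfsg.Agent.Lib.Lead.B3P

open Cfsg.Agent.Lib.helper7 Cfsg.Agent.Lib.helper7.Br Cfsg.Agent.Lib.helper2

variable {G : Type*} [Group G]

theorem b3ppair_inv_card {p : ℕ} {M : Ideal Cfsg.AlgInt} (hMp : Cfsg.IsPModular p M)
    (hM : M.IsPrime) (n : ℕ) (hn : n.Coprime p) (hpos : 0 < n) :
    ∃ c : locRing M hM, (c : ℂ) = (n : ℂ)⁻¹ ∧ c * ((n : ℕ) : locRing M hM) = 1 := by
  refine ⟨⟨(n : ℂ)⁻¹, h7_memLocalRing_inv_natCast hMp n hn⟩, rfl, ?_⟩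
  apply Subtype.ext
  have hne : (n : ℂ) ≠ 0 := by exact_mod_cast hpos.ne'
  push_cast
  exact inv_mul_cancel₀ hne

theorem exists_idem_pair [Fintype G] {p : ℕ} {M : Ideal Cfsg.AlgInt} (hMp : Cfsg.IsPModular p M)
    (hM : M.IsPrime) (Q R : Subgroup G) (hQ : (Nat.card Q).Coprime p) (hR : (Nat.card R).Coprime p) :
    ∃ (cQ cR : locRing M hM) (f g a b : GA (locRing M hM) G),
      (cQ : ℂ) = (Nat.card Q : ℂ)⁻¹ ∧ (cR : ℂ) = (Nat.card R : ℂ)⁻¹ ∧
      f * f = f ∧ g * g = g ∧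
      f * eH Q cQ = f ∧ eH Q cQ * f = f ∧ g * eH R cR = g ∧ eH R cR * g = g ∧
      a * b = f ∧ b * a = g ∧ aug f = 1 := by
  haveI : IsLocalRing (locRing M hM) := locRing_isLocalRing M hM
  obtain ⟨cQ, hcQ, hcQ1⟩ := b3ppair_inv_card hMp hM (Nat.card Q) hQ Nat.card_pos
  obtain ⟨cR, hcR, hcR1⟩ := b3ppair_inv_card hMp hM (Nat.card R) hR Nat.card_pos
  have hQi : (eH Q cQ : GA (locRing M hM) G) * eH Q cQ = eH Q cQ := eH_idem Q cQ hcQ1
  have hRi : (eH R cR : GA (locRing M hM) G) * eH R cR = eH R cR := eH_idem R cR hcR1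
  set t : GA (locRing M hM) G := eH Q cQ * eH R cR * eH Q cQ with ht
  have hint : IsIntegral (locRing M hM) t := Algebra.IsIntegral.isIntegral t
  obtain ⟨f, u, hff, hut, htu, huf, hfu, hφ⟩ :=
    spectral_idem (O := locRing M hM) (A := GA (locRing M hM) G) (locRing_split M hM) t hint
  obtain ⟨φ, hφa⟩ := exists_augHom (O := locRing M hM) (G := G)
  have hφt : φ t = 1 := by
    rw [ht, map_mul, map_mul, hφa, hφa, eH_aug Q cQ hcQ1, eH_aug R cR hcR1]
    simp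
  have haug : aug f = 1 := by
    rw [← hφa]
    exact hφ φ (by rw [hφt]; exact isUnit_one)
  obtain ⟨e1, e2, e3, e4, e5, e6, e7⟩ :=
    transfer (eH Q cQ : GA (locRing M hM) G) (eH R cR) f u hQi hRi hff hut htu huf hfu
  exact ⟨cQ, cR, f, eH R cR * u * eH R cR, u * eH R cR, eH R cR * f, hcQ, hcR, hff, e5, e1, e2,
    e7, e6, e3, e4, haug⟩

end Cfsg.Agent.Lib.Lead.B3P
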