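import Mathlib
import Cfsg.Agent.Lib.Lead.B3P.Defs
import Cfsg.Agent.Lib.Lead.B3P.Pair
import Cfsg.Agent.Lib.helper2.CharNat
import Cfsg.Agent.Lib.helper2.PModular2
import Cfsg.Agent.Lib.Helper29.B3PTOC
import Cfsg.Agent.Lib.helper23.B3PPHI1
import Cfsg.Agent.Lib.Helper10.B3PPHI4
import Cfsg.Agent.Lib.Helper10.B3PPQR
import Cfsg.Agent.Lib.Helper21.B3PVAN

set_option autoImplicit false
set_option linter.unusedVariables false
set_option linter.unusedSectionVars false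
set_option linter.style.haveILetI false
open scoped ComplexConjugate
open Classical

namespace Cfsg.Agent.Lib.Lead.B3P

open Cfsg.Agent.Lib.helper7 Cfsg.Agent.Lib.helper7.Br Cfsg.Agent.Lib.helper2

variable {G : Type*} [Group G]

theorem b3pexphi_inner_add_add [Fintype G] (a b c d : G → ℂ) :
    Cfsg.classInner (a + b) (c + d) = Cfsg.classInner a c + Cfsg.classInner a d +
      Cfsg.classInner b c + Cfsg.classInner b d := by
  simp only [Cfsg.classInner, Pi.add_apply, map_add, mul_add, add_mul, Finset.sum_add_distrib]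
  ring

/-- `e - f` is idempotent when `f ≤ e` -/
theorem b3pexphi_sub_idem {A : Type*} [Ring A] (e f : A) (he : e * e = e) (hf : f * f = f)
    (h1 : f * e = f) (h2 : e * f = f) : (e - f) * (e - f) = e - f := by
  rw [sub_mul, mul_sub, mul_sub, he, h1, h2, hf]
  abel

theorem exists_phi [Fintype G] (p : ℕ) [Fact p.Prime] (Q R : Subgroup G)
    (hQ : (Nat.card Q).Coprime p) (hR : (Nat.card R).Coprime p)
    (hQR : (Nat.card Q).Coprime (Nat.card R)) :
    ∃ Φ : G → ℂ, Cfsg.IsCharacter G Φ ∧ (∀ y : G, p ∣ orderOf y → Φ y = 0) ∧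
      (∑ y : G, Φ y = (Nat.card G : ℂ)) ∧
      ∃ m : ℕ, Cfsg.classInner Φ Φ = (m : ℂ) ∧ m * (Nat.card Q * Nat.card R) ≤ Nat.card G := by
  obtain ⟨M, hMp⟩ := exists_isPModular p Fact.out
  have hM : M.IsPrime := hMp.2.1.isPrime
  obtain ⟨cQ, cR, f, g, a, b, hcQ, hcR, hff, hgg, hfQ, hQf, hgR, hRg, hab, hba, haug⟩ :=
    exists_idem_pair hMp hM Q R hQ hR
  have hQne : (Nat.card Q : ℂ) ≠ 0 := by exact_mod_cast Nat.card_pos.ne'
  have hRne : (Nat.card R : ℂ) ≠ 0 := by exact_mod_cast Nat.card_pos.ne'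
  -- complex versions
  have hFF : toC f * toC f = toC f := by rw [← toC_mul, hff]
  have hGG : toC g * toC g = toC g := by rw [← toC_mul, hgg]
  have hEQ : toC (eH Q cQ) = eH Q ((Nat.card Q : ℂ)⁻¹) := by rw [toC_eH, hcQ]
  have hER : toC (eH R cR) = eH R ((Nat.card R : ℂ)⁻¹) := by rw [toC_eH, hcR]
  have hEQi : (eH Q ((Nat.card Q : ℂ)⁻¹) : GA ℂ G) * eH Q ((Nat.card Q : ℂ)⁻¹) =
      eH Q ((Nat.card Q : ℂ)⁻¹) := eH_idem Q _ (inv_mul_cancel₀ hQne)
  have hERi : (eH R ((Nat.card R : ℂ)⁻¹) : GA ℂ G) * eH R ((Nat.card R : ℂ)⁻¹) =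
      eH R ((Nat.card R : ℂ)⁻¹) := eH_idem R _ (inv_mul_cancel₀ hRne)
  have hFQ : toC f * eH Q ((Nat.card Q : ℂ)⁻¹) = toC f := by rw [← hEQ, ← toC_mul, hfQ]
  have hQF : eH Q ((Nat.card Q : ℂ)⁻¹) * toC f = toC f := by rw [← hEQ, ← toC_mul, hQf]
  have hGR : toC g * eH R ((Nat.card R : ℂ)⁻¹) = toC g := by rw [← hER, ← toC_mul, hgR]
  have hRG : eH R ((Nat.card R : ℂ)⁻¹) * toC g = toC g := by rw [← hER, ← toC_mul, hRg]
  have hPhiEq : Phi (toC f) = Phi (toC g) := by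
    rw [← hab, ← hba, toC_mul, toC_mul, phi_comm]
  -- the four characters
  have c1 : Cfsg.IsCharacter G (Phi (toC f)) := phi_isCharacter _ hFF
  have c3 : Cfsg.IsCharacter G (Phi (toC g)) := phi_isCharacter _ hGG
  have c2 : Cfsg.IsCharacter G (Phi (eH Q ((Nat.card Q : ℂ)⁻¹) - toC f)) :=
    phi_isCharacter _ (b3pexphi_sub_idem _ _ hEQi hFF hFQ hQF)
  have c4 : Cfsg.IsCharacter G (Phi (eH R ((Nat.card R : ℂ)⁻¹) - toC g)) :=
    phi_isCharacter _ (b3pexphi_sub_idem _ _ hERi hGG hGR hRG)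
  have dQ : Phi (eH Q ((Nat.card Q : ℂ)⁻¹)) =
      Phi (toC f) + Phi (eH Q ((Nat.card Q : ℂ)⁻¹) - toC f) := by
    rw [← phi_add]
    congr 1
    abel
  have dR : Phi (eH R ((Nat.card R : ℂ)⁻¹)) =
      Phi (toC g) + Phi (eH R ((Nat.card R : ℂ)⁻¹) - toC g) := by
    rw [← phi_add]
    congr 1
    abel
  obtain ⟨m1, hm1⟩ := classInner_character_nat c1 c3
  obtain ⟨m2, hm2⟩ := classInner_character_nat c1 c4
  obtain ⟨m3, hm3⟩ := classInner_character_nat c2 c3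
  obtain ⟨m4, hm4⟩ := classInner_character_nat c2 c4
  have htot := phi_inner_eH Q R hQR
  rw [dQ, dR, b3pexphi_inner_add_add, hm1, hm2, hm3, hm4] at htot
  have hnat : (m1 + m2 + m3 + m4) * (Nat.card Q * Nat.card R) = Nat.card G := by
    have h : (((m1 + m2 + m3 + m4) * (Nat.card Q * Nat.card R) : ℕ) : ℂ) = (Nat.card G : ℂ) := by
      push_cast
      rw [htot]
      field_simp
    exact_mod_cast h
  refine ⟨Phi (toC f), c1, ?_, ?_, m1, ?_, ?_⟩
  · intro y hy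
    exact vanish hMp hM f hff y hy
  · rw [phi_sum, toC_aug, haug]
    simp
  · rw [← hm1, hPhiEq]
  · calc m1 * (Nat.card Q * Nat.card R) ≤ (m1 + m2 + m3 + m4) * (Nat.card Q * Nat.card R) :=
        Nat.mul_le_mul_right _ (by omega)
      _ = Nat.card G := hnat

end Cfsg.Agent.Lib.Lead.B3P
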