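import Mathlib
import Cfsg.Agent.Lib.Lead.B3P.Defs
import Cfsg.Agent.Lib.Lead.B3P.Exphi
import Cfsg.Agent.Lib.helper2.CharNat
import Cfsg.Agent.Lib.helper23.B3PKER
import Cfsg.Agent.S0139

set_option autoImplicit false
set_option linter.unusedVariables false
set_option linter.unusedSectionVars false
set_option linter.style.haveILetI false
open scoped ComplexConjugate
open Classical

namespace Cfsg.Agent.Lib.Lead.B3P

theorem b3pfinal_fact (p q r a b c : ℕ) (hp : p.Prime) (hq : q.Prime) (hr : r.Prime)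
    (hpq : p ≠ q) (hqr : q ≠ r) : (p ^ a * q ^ b * r ^ c).factorization q = b := by
  have h1 : p ^ a ≠ 0 := pow_ne_zero _ hp.ne_zero
  have h2 : q ^ b ≠ 0 := pow_ne_zero _ hq.ne_zero
  have h3 : r ^ c ≠ 0 := pow_ne_zero _ hr.ne_zero
  rw [Nat.factorization_mul (mul_ne_zero h1 h2) h3, Nat.factorization_mul h1 h2]
  simp only [Finsupp.coe_add, Pi.add_apply, Nat.factorization_pow, Finsupp.coe_smul, Pi.smul_apply,
    smul_eq_mul]
  rw [hp.factorization, hq.factorization, hr.factorization]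
  simp [Finsupp.single_apply, hpq, hqr.symm]

theorem main_final {G : Type*} [Group G] [Finite G] (p q r a b c : ℕ) (hp : p.Prime) (hq : q.Prime)
    (hr : r.Prime) (hpq : p ≠ q) (hpr : p ≠ r) (hqr : q ≠ r)
    (hG : Nat.card G = p ^ a * q ^ b * r ^ c)
    (hcount : Nat.card {g : G // ¬ p ∣ orderOf g} = q ^ b * r ^ c) :
    ∃ N : Subgroup G, N.Normal ∧ Nat.card N = q ^ b * r ^ c := by
  haveI : Fintype G := Fintype.ofFinite G
  haveI : Fact p.Prime := ⟨hp⟩
  haveI : Fact q.Prime := ⟨hq⟩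
  haveI : Fact r.Prime := ⟨hr⟩
  obtain ⟨Q⟩ := (inferInstance : Nonempty (Sylow q G))
  obtain ⟨R⟩ := (inferInstance : Nonempty (Sylow r G))
  have hQc : Nat.card (Q : Subgroup G) = q ^ b := by
    rw [Sylow.card_eq_multiplicity, hG, b3pfinal_fact p q r a b c hp hq hr hpq hqr]
  have hRc : Nat.card (R : Subgroup G) = r ^ c := by
    rw [Sylow.card_eq_multiplicity, hG]
    have : p ^ a * q ^ b * r ^ c = p ^ a * r ^ c * q ^ b := by ring
    rw [this, b3pfinal_fact p r q a c b hp hr hq hpr hqr.symm]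
  have cqp : Nat.Coprime q p := (Nat.coprime_primes hq hp).mpr hpq.symm
  have crp : Nat.Coprime r p := (Nat.coprime_primes hr hp).mpr hpr.symm
  have cqr : Nat.Coprime q r := (Nat.coprime_primes hq hr).mpr hqr
  obtain ⟨Φ, hchar, hvan, hsum, m, hm, hle⟩ := exists_phi (G := G) p (Q : Subgroup G) (R : Subgroup G)
    (by rw [hQc]; exact Nat.Coprime.pow_left _ cqp) (by rw [hRc]; exact Nat.Coprime.pow_left _ crp)
    (by rw [hQc, hRc]; exact Nat.Coprime.pow _ _ cqr)
  rw [hQc, hRc, hG] at hle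
  have hnpos : 0 < q ^ b * r ^ c := Nat.mul_pos (pow_pos hq.pos _) (pow_pos hr.pos _)
  have hmle : m ≤ p ^ a := by
    have : m * (q ^ b * r ^ c) ≤ p ^ a * (q ^ b * r ^ c) := by
      calc m * (q ^ b * r ^ c) ≤ p ^ a * q ^ b * r ^ c := hle
        _ = p ^ a * (q ^ b * r ^ c) := by ring
    exact Nat.le_of_mul_le_mul_right this hnpos
  -- the comparison function
  set θ : G → ℂ := fun y => if p ∣ orderOf y then 0 else ((p ^ a : ℕ) : ℂ) with hθ
  have hcard : (Nat.card G : ℂ) = ((p ^ a : ℕ) : ℂ) * ((q ^ b * r ^ c : ℕ) : ℂ) := by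
    rw [hG]; push_cast; ring
  have hcardne : (Nat.card G : ℂ) ≠ 0 := by exact_mod_cast Nat.card_pos.ne'
  -- the four sums
  have s1 : ∑ y : G, Φ y * conj (Φ y) = (Nat.card G : ℂ) * (m : ℂ) := by
    have := hm
    unfold Cfsg.classInner at this
    rw [← this, ← mul_assoc, mul_inv_cancel₀ hcardne, one_mul]
  have hΦθ : ∀ y : G, Φ y * conj (θ y) = ((p ^ a : ℕ) : ℂ) * Φ y := by
    intro y
    by_cases hy : p ∣ orderOf y
    · simp [hθ, hy, hvan y hy]
    · simp only [hθ, hy, if_false, Complex.conj_natCast]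
      ring
  have s2 : ∑ y : G, Φ y * conj (θ y) = ((p ^ a : ℕ) : ℂ) * (Nat.card G : ℂ) := by
    simp_rw [hΦθ]
    rw [← Finset.mul_sum, hsum]
  have s3 : ∑ y : G, θ y * conj (Φ y) = ((p ^ a : ℕ) : ℂ) * (Nat.card G : ℂ) := by
    have : ∀ y : G, θ y * conj (Φ y) = conj (Φ y * conj (θ y)) := by
      intro y
      rw [map_mul, Complex.conj_conj, mul_comm]
    simp_rw [this]
    rw [← map_sum, s2]
    simp
  have s4 : ∑ y : G, θ y * conj (θ y) =
      ((p ^ a : ℕ) : ℂ) * ((p ^ a : ℕ) : ℂ) * ((q ^ b * r ^ c : ℕ) : ℂ) := by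
    have : ∀ y : G, θ y * conj (θ y) =
        if ¬ p ∣ orderOf y then ((p ^ a : ℕ) : ℂ) * ((p ^ a : ℕ) : ℂ) else 0 := by
      intro y
      by_cases hy : p ∣ orderOf y
      · simp [hθ, hy]
      · simp [hθ, hy]
    simp_rw [this]
    rw [Finset.sum_ite, Finset.sum_const_zero, add_zero, Finset.sum_const, nsmul_eq_mul]
    have hc : (Finset.univ.filter fun y : G => ¬ p ∣ orderOf y).card = q ^ b * r ^ c := by
      rw [← hcount, Nat.card_eq_fintype_card, Fintype.card_subtype]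
    rw [hc]
    ring
  have htot : ∑ y : G, ((Complex.normSq (Φ y - θ y) : ℝ) : ℂ) =
      (Nat.card G : ℂ) * ((m : ℂ) - ((p ^ a : ℕ) : ℂ)) := by
    have : ∀ y : G, ((Complex.normSq (Φ y - θ y) : ℝ) : ℂ) =
        Φ y * conj (Φ y) - Φ y * conj (θ y) - θ y * conj (Φ y) + θ y * conj (θ y) := by
      intro y
      rw [← Complex.mul_conj, map_sub]
      ring
    simp_rw [this]
    rw [Finset.sum_add_distrib, Finset.sum_sub_distrib, Finset.sum_sub_distrib, s1, s2, s3, s4, hcard]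
    ring
  have hreal : ∑ y : G, Complex.normSq (Φ y - θ y) = (Nat.card G : ℝ) * ((m : ℝ) - ((p ^ a : ℕ) : ℝ)) := by
    have := htot
    rw [← Complex.ofReal_sum] at this
    have h2 : (Nat.card G : ℂ) * ((m : ℂ) - ((p ^ a : ℕ) : ℂ)) =
        (((Nat.card G : ℝ) * ((m : ℝ) - ((p ^ a : ℕ) : ℝ)) : ℝ) : ℂ) := by
      push_cast; ring
    rw [h2] at this
    exact Complex.ofReal_injective this
  have hnonpos : ∑ y : G, Complex.normSq (Φ y - θ y) ≤ 0 := by
    rw [hreal]
    apply mul_nonpos_of_nonneg_of_nonpos (Nat.cast_nonneg _)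
    have : (m : ℝ) ≤ ((p ^ a : ℕ) : ℝ) := by exact_mod_cast hmle
    linarith
  have hzero : ∀ y : G, Φ y = θ y := by
    intro y
    have h0 : ∑ y : G, Complex.normSq (Φ y - θ y) = 0 :=
      le_antisymm hnonpos (Finset.sum_nonneg fun y _ => Complex.normSq_nonneg _)
    have := (Finset.sum_eq_zero_iff_of_nonneg fun y _ => Complex.normSq_nonneg _).mp h0 y
      (Finset.mem_univ y)
    rw [Complex.normSq_eq_zero] at this
    exact sub_eq_zero.mp this
  obtain ⟨N, hN, hmem⟩ := isCharacter_ker hchar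
  refine ⟨N, hN, ?_⟩
  have hp1 : ¬ p ∣ orderOf (1 : G) := by
    rw [orderOf_one]
    exact fun h => hp.one_lt.ne' (Nat.dvd_one.mp h)
  have hpa : ((p ^ a : ℕ) : ℂ) ≠ 0 := by
    exact_mod_cast (pow_pos hp.pos a).ne'
  have hiff : ∀ g : G, g ∈ N ↔ ¬ p ∣ orderOf g := by
    intro g
    rw [hmem, hzero g, hzero 1]
    simp only [hθ, hp1, if_false]
    by_cases hg : p ∣ orderOf g
    · simp only [hg, if_true, not_true, iff_false]
      exact fun h => hpa h.symm
    · simp [hg]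
  rw [← hcount]
  exact Nat.card_congr (Equiv.subtypeEquivRight hiff)

end Cfsg.Agent.Lib.Lead.B3P
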